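import Groth.Prelude.Def_NonAbH2
import Groth.Prelude.Def_TwC
import Groth.Agent.Lib.Helper14.GroupAction

/-!
# Actions of constant group schemes: the automorphisms `σ z` (helper7)

Let `G ≅ Z_P` be a constant `P`-group scheme acting on `X`. Every `z : Z` gives a constant section
`c z` of `G` and an automorphism `σ z` of `X`. On the open `O z` of `G ⊗ X` lying over the `z`-th
copy of `P`, the action is `σ z` composed with the projection.
-/

set_option autoImplicit false
universe u
open CategoryTheory Limits AlgebraicGeometry MonoidalCategory CartesianMonoidalCategory MonObj GrpObj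

namespace Groth.Agent.Lib.Helper7.ConstTorsor

open Groth.Agent.Lib.Helper14

variable {P : Scheme.{u}} {Z : Type u} [Group Z] {G X : Over P} [GrpObj G]
  (eG : G ≅ TwC.const P Z)

/-- The constant section of `G` of index `z`. -/
noncomputable def cst (z : Z) : 𝟙_ (Over P) ⟶ G := TwC.pt P Z z ≫ eG.inv

variable {eG}

theorem cst_mul (hG : TwC.IsConstGrp Z G eG) (z w : Z) : cst eG z * cst eG w = cst eG (z * w) :=
  hG z w

theorem cst_one (hG : TwC.IsConstGrp Z G eG) : cst eG (1 : Z) = 1 := by
  have h := cst_mul hG 1 1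
  rw [_root_.mul_one] at h
  have h' : cst eG (1 : Z) * cst eG (1 : Z) = cst eG (1 : Z) * 1 := by rw [h, _root_.mul_one]
  exact mul_left_cancel h'

theorem cst_hom_left (z : Z) : (cst eG z).left ≫ eG.hom.left = Sigma.ι (fun _ : Z => P) z := by
  change (cst eG z ≫ eG.hom).left = _
  unfold cst
  rw [Category.assoc, Iso.inv_hom_id, Category.comp_id]
  rfl

variable (eG) (a : AlgGrp.Action G X)

/-- Translation by the constant section `z`. -/
noncomputable def σ (z : Z) : X ⟶ X := lift (toUnit X ≫ cst eG z) (𝟙 X) ≫ a.act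

variable {eG}

theorem σ_one (hG : TwC.IsConstGrp Z G eG) : σ eG a 1 = 𝟙 X := by
  unfold σ
  rw [cst_one hG, comp_one]
  exact act_one a (𝟙 X)

/-- A point-level form: for a `T`-point `x` of `X`, acting by the constant section is `σ z`. -/
theorem lift_cst_act {T : Over P} (z : Z) (x : T ⟶ X) :
    lift (toUnit T ≫ cst eG z) x ≫ a.act = x ≫ σ eG a z := by
  have h : lift (toUnit T ≫ cst eG z) x = x ≫ lift (toUnit X ≫ cst eG z) (𝟙 X) := by
    apply CartesianMonoidalCategory.hom_ext
    · simp
    · simp
  unfold σ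
  rw [h, Category.assoc]

theorem σ_mul (hG : TwC.IsConstGrp Z G eG) (z w : Z) : σ eG a (z * w) = σ eG a w ≫ σ eG a z := by
  have h1 : σ eG a (z * w) = lift (toUnit X ≫ cst eG z) (σ eG a w) ≫ a.act := by
    unfold σ
    rw [← cst_mul hG, comp_mul, act_mul]
  rw [h1, lift_cst_act]

theorem σ_left_hom (z : Z) : (σ eG a z).left ≫ X.hom = X.hom := Over.w _

end Groth.Agent.Lib.Helper7.ConstTorsor
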