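import Groth.Agent.Lib.Helper7.ConstTorsor.Action

/-!
# The pieces of `G ⊗ X` for a constant group `G`, and freeness of the action on points (helper7)
-/

set_option autoImplicit false
universe u
open CategoryTheory Limits AlgebraicGeometry MonoidalCategory CartesianMonoidalCategory MonObj GrpObj

namespace Groth.Agent.Lib.Helper7.ConstTorsor

open Groth.Agent.Lib.Helper14

variable {P : Scheme.{u}} {Z : Type u} [Group Z] {G X : Over P} [GrpObj G]
  (eG : G ≅ TwC.const P Z)

/-- The map from `G ⊗ X` to the coproduct of copies of `P`. -/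
noncomputable def compMap (X : Over P) : (G ⊗ X).left ⟶ ∐ (fun _ : Z => P) :=
  (fst G X).left ≫ eG.hom.left

/-- The open subscheme of `G ⊗ X` lying over the `z`-th copy of `P`. -/
noncomputable def pieceO (X : Over P) (z : Z) : (G ⊗ X).left.Opens :=
  (compMap eG X) ⁻¹ᵁ (Sigma.ι (fun _ : Z => P) z).opensRange

variable {eG}

theorem eq_of_mem_pieceO {z w : Z} (y : (G ⊗ X).left) (hz : y ∈ pieceO eG X z)
    (hw : y ∈ pieceO eG X w) : z = w := by
  by_contra hne
  have hd := disjoint_opensRange_sigmaι (fun _ : Z => P) z w hne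
  have : compMap eG X y ∈ (Sigma.ι (fun _ : Z => P) z).opensRange ⊓
      (Sigma.ι (fun _ : Z => P) w).opensRange := ⟨hz, hw⟩
  rw [hd.eq_bot] at this
  exact this

theorem exists_mem_pieceO (y : (G ⊗ X).left) : ∃ z : Z, y ∈ pieceO eG X z := by
  obtain ⟨z, p, hp⟩ := (sigmaOpenCover (fun _ : Z => P)).exists_eq (compMap eG X y)
  exact ⟨z, p, hp⟩

/-- The section `x ↦ (c_z, x)` of `G ⊗ X`. -/
noncomputable def incl (eG : G ≅ TwC.const P Z) (X : Over P) (z : Z) : X ⟶ G ⊗ X :=
  lift (toUnit X ≫ cst eG z) (𝟙 X)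

theorem incl_act (a : AlgGrp.Action G X) (z : Z) : incl eG X z ≫ a.act = σ eG a z := rfl

theorem incl_snd (z : Z) : incl eG X z ≫ snd G X = 𝟙 X := lift_snd _ _

theorem incl_fst (z : Z) : incl eG X z ≫ fst G X = toUnit X ≫ cst eG z := lift_fst _ _

theorem incl_mem_pieceO (z : Z) (x : X.left) : (incl eG X z).left x ∈ pieceO eG X z := by
  change (compMap eG X) ((incl eG X z).left x) ∈ Set.range (Sigma.ι (fun _ : Z => P) z)
  have h : (incl eG X z).left ≫ compMap eG X = X.hom ≫ Sigma.ι (fun _ : Z => P) z := by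
    unfold compMap
    rw [← Category.assoc, ← Over.comp_left, incl_fst, Over.comp_left, Category.assoc,
      cst_hom_left, Over.toUnit_left]
  rw [← Scheme.Hom.comp_apply, h, Scheme.Hom.comp_apply]
  exact ⟨_, rfl⟩

/-- The piece `O z` as a scheme over `P`. -/
noncomputable def pieceOver (eG : G ≅ TwC.const P Z) (X : Over P) (z : Z) : Over P :=
  Over.mk ((pieceO eG X z).ι ≫ (G ⊗ X).hom)

/-- The inclusion of the piece `O z` in `G ⊗ X`. -/
noncomputable def pieceIncl (eG : G ≅ TwC.const P Z) (X : Over P) (z : Z) :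
    pieceOver eG X z ⟶ G ⊗ X :=
  Over.homMk (pieceO eG X z).ι rfl

theorem pieceIncl_fst (z : Z) :
    pieceIncl eG X z ≫ fst G X = toUnit (pieceOver eG X z) ≫ cst eG z := by
  ext1
  rw [Over.comp_left, Over.comp_left, Over.toUnit_left]
  change (pieceO eG X z).ι ≫ (fst G X).left = ((pieceO eG X z).ι ≫ (G ⊗ X).hom) ≫ (cst eG z).left
  rw [← cancel_mono eG.hom.left, Category.assoc, Category.assoc, cst_hom_left]
  -- factor through the `z`-th copy
  let l : (pieceO eG X z : Scheme.{u}) ⟶ P :=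
    IsOpenImmersion.lift (Sigma.ι (fun _ : Z => P) z) ((pieceO eG X z).ι ≫ compMap eG X) (by
      rintro _ ⟨q, rfl⟩
      rw [Scheme.Hom.comp_apply]
      exact q.2)
  have hl : l ≫ Sigma.ι (fun _ : Z => P) z = (pieceO eG X z).ι ≫ compMap eG X :=
    IsOpenImmersion.lift_fac _ _ _
  have hl' : l = (pieceO eG X z).ι ≫ (G ⊗ X).hom := by
    have h1 : l = (l ≫ Sigma.ι (fun _ : Z => P) z) ≫ Sigma.desc (fun _ : Z => 𝟙 P) := by
      rw [Category.assoc, Sigma.ι_desc, Category.comp_id]
    rw [h1, hl]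
    unfold compMap
    have h2 : eG.hom.left ≫ Sigma.desc (fun _ : Z => 𝟙 P) = G.hom := Over.w eG.hom
    have h3 : (fst G X).left ≫ G.hom = (G ⊗ X).hom := Over.w (fst G X)
    rw [Category.assoc, Category.assoc, h2, h3]
  change (pieceO eG X z).ι ≫ compMap eG X = _
  rw [← hl, hl', Category.assoc]

/-- On the piece `O z`, the action is translation by `z` (morphism form). -/
theorem pieceIncl_act (a : AlgGrp.Action G X) (z : Z) :
    pieceIncl eG X z ≫ a.act = (pieceIncl eG X z ≫ snd G X) ≫ σ eG a z := by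
  have h1 : pieceIncl eG X z =
      lift (pieceIncl eG X z ≫ fst G X) (pieceIncl eG X z ≫ snd G X) := by
    apply CartesianMonoidalCategory.hom_ext
    · simp
    · simp
  conv_lhs => rw [h1, pieceIncl_fst]
  exact lift_cst_act a z _

/-- A morphism to `G ⊗ X` landing in the piece `O z` acts by translation by `z`. -/
theorem act_eq_of_forall_mem_pieceO (a : AlgGrp.Action G X) (z : Z) {W : Over P}
    (ψ : W ⟶ G ⊗ X) (h : ∀ w : W.left, ψ.left w ∈ pieceO eG X z) :
    ψ ≫ a.act = (ψ ≫ snd G X) ≫ σ eG a z := by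
  let ψ₀ : W.left ⟶ (pieceO eG X z : Scheme.{u}) :=
    IsOpenImmersion.lift (pieceO eG X z).ι ψ.left (by
      rintro _ ⟨w, rfl⟩
      rw [Scheme.Opens.range_ι]
      exact h w)
  have hψ₀ : ψ₀ ≫ (pieceO eG X z).ι = ψ.left := IsOpenImmersion.lift_fac _ _ _
  let ψ' : W ⟶ pieceOver eG X z := Over.homMk ψ₀ (by
    change ψ₀ ≫ (pieceO eG X z).ι ≫ (G ⊗ X).hom = W.hom
    rw [reassoc_of% hψ₀]
    exact Over.w ψ)
  have hψ' : ψ' ≫ pieceIncl eG X z = ψ := by
    apply Over.OverMorphism.ext
    exact hψ₀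
  rw [← hψ', Category.assoc, pieceIncl_act]
  simp only [Category.assoc]

/-- On the piece `O z`, the action is translation by `z`. -/
theorem act_apply_of_mem_pieceO (a : AlgGrp.Action G X) (z : Z) (y : (G ⊗ X).left)
    (hy : y ∈ pieceO eG X z) : a.act.left y = (σ eG a z).left ((snd G X).left y) := by
  have hy' : y = (pieceIncl eG X z).left ⟨y, hy⟩ := rfl
  have := congrArg (fun m => (m.left : (pieceOver eG X z).left ⟶ X.left) ⟨y, hy⟩)
    (pieceIncl_act a z)
  simp only [Over.comp_left, Scheme.Hom.comp_apply] at this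
  rw [← hy'] at this
  exact this

/-- Points of a fibre product with given projections lie in the image of the spectrum of the
tensor product of residue fields. -/
theorem mem_range_specTensorTo {A B S : Scheme.{u}} (f : A ⟶ S) (g : B ⟶ S)
    (T₀ : Scheme.Pullback.Triplet f g) (w : ↥(pullback f g))
    (h1 : pullback.fst f g w = T₀.x) (h2 : pullback.snd f g w = T₀.y) :
    w ∈ Set.range T₀.SpecTensorTo := by
  have e : Scheme.Pullback.Triplet.ofPoint w = T₀ := Scheme.Pullback.Triplet.ext h1 h2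
  have h := Scheme.Pullback.SpecTensorTo_SpecOfPoint w
  revert h
  generalize Scheme.Pullback.SpecOfPoint w = q
  revert q
  rw [e]
  intro q hq
  exact ⟨q, hq⟩

/-- The constant group acts freely on the points of a pseudo-torsor, if it has no torsion. -/
theorem σ_free (hG : TwC.IsConstGrp Z G eG) (a : AlgGrp.Action G X)
    (hX : NonAbH1.IsPseudoTorsorSch a) (hZ : ∀ z : Z, IsOfFinOrder z → z = 1) (z : Z)
    (x : X.left) (hx : (σ eG a z).left x = x) : z = 1 := by
  apply hZ
  by_contra hfin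
  have hinj : Function.Injective (fun n : ℕ => z ^ n) :=
    injective_pow_iff_not_isOfFinOrder.mpr hfin
  let φ : G ⊗ X ⟶ X ⊗ X := lift a.act (snd G X)
  have hφ : IsIso φ := hX
  have hφl : IsIso φ.left := (inferInstance : IsIso ((Over.forget P).map φ))
  -- `σ (z ^ n)` fixes `x`
  have hfix : ∀ n : ℕ, (σ eG a (z ^ n)).left x = x := by
    intro n
    induction n with
    | zero => rw [pow_zero, σ_one a hG]; rfl
    | succ n ih =>
      rw [pow_succ, σ_mul a hG, Over.comp_left, Scheme.Hom.comp_apply, hx, ih]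
  let T₀ : Scheme.Pullback.Triplet X.hom X.hom := Scheme.Pullback.Triplet.mk' x x rfl
  let K : Set ↥(X ⊗ X).left := Set.range T₀.SpecTensorTo
  have hK : IsCompact K := isCompact_range T₀.SpecTensorTo.continuous
  let pts : ℕ → ↥(X ⊗ X).left := fun n => φ.left ((incl eG X (z ^ n)).left x)
  have hptsK : ∀ n, pts n ∈ K := by
    intro n
    refine mem_range_specTensorTo X.hom X.hom T₀ (pts n) ?_ ?_
    · change (fst X X).left (φ.left ((incl eG X (z ^ n)).left x)) = x
      rw [← Scheme.Hom.comp_apply, ← Scheme.Hom.comp_apply, ← Over.comp_left, ← Over.comp_left]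
      have : incl eG X (z ^ n) ≫ φ ≫ fst X X = σ eG a (z ^ n) := by
        rw [lift_fst]; rfl
      rw [this]
      exact hfix n
    · change (snd X X).left (φ.left ((incl eG X (z ^ n)).left x)) = x
      rw [← Scheme.Hom.comp_apply, ← Scheme.Hom.comp_apply, ← Over.comp_left, ← Over.comp_left]
      have : incl eG X (z ^ n) ≫ φ ≫ snd X X = 𝟙 X := by
        rw [lift_snd]; exact incl_snd _
      rw [this]
      rfl
  let O' : Z → Set ↥(X ⊗ X).left := fun w => (inv φ.left) ⁻¹' (pieceO eG X w : Set _)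
  have hO'open : ∀ w, IsOpen (O' w) := fun w =>
    (pieceO eG X w).2.preimage (inv φ.left).continuous
  have hcover : K ⊆ ⋃ w, O' w := by
    intro y _
    obtain ⟨w, hw⟩ := exists_mem_pieceO (eG := eG) ((inv φ.left) y)
    exact Set.mem_iUnion.mpr ⟨w, hw⟩
  obtain ⟨t, ht⟩ := hK.elim_finite_subcover O' hO'open hcover
  have hmem : ∀ n : ℕ, z ^ n ∈ t := by
    intro n
    have h1 := ht (hptsK n)
    simp only [Set.mem_iUnion, exists_prop] at h1
    obtain ⟨w, hwt, hw⟩ := h1
    have h2 : (inv φ.left) (pts n) = (incl eG X (z ^ n)).left x := by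
      change (inv φ.left) (φ.left _) = _
      rw [← Scheme.Hom.comp_apply, IsIso.hom_inv_id]
      rfl
    have h3 : (inv φ.left) (pts n) ∈ pieceO eG X (z ^ n) := by
      rw [h2]; exact incl_mem_pieceO _ _
    have : w = z ^ n := eq_of_mem_pieceO _ hw h3
    rw [← this]; exact hwt
  have hsub : Set.range (fun n : ℕ => z ^ n) ⊆ (t : Set Z) := by
    rintro _ ⟨n, rfl⟩
    exact hmem n
  exact (Set.infinite_range_of_injective hinj) (t.finite_toSet.subset hsub)

end Groth.Agent.Lib.Helper7.ConstTorsor
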