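import Groth.Agent.Lib.Helper7.TwConst.LocIrred

/-!
# Open fundamental domains for free actions on locally irreducible spaces (helper7)

If a group acts freely (on points) by continuous maps on a quasi-sober T0 space in which every
point has an irreducible open neighbourhood, there is an open subset meeting every orbit whose
translates by nontrivial elements are disjoint from it.
-/

set_option autoImplicit false

namespace Groth.Agent.Lib.Helper7.ConstTorsor

open TopologicalSpace Groth.Agent.Lib.Helper7.TwConst

theorem exists_open_fundamental_domain {X : Type*} [TopologicalSpace X] [QuasiSober X] [T0Space X]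
    (hloc : ∀ y : X, ∃ N : Set X, IsOpen N ∧ y ∈ N ∧ IsIrreducible N)
    {Z : Type*} [Group Z] (σ : Z → X → X) (hσc : ∀ z, Continuous (σ z))
    (hσ1 : ∀ x, σ 1 x = x) (hσmul : ∀ z w x, σ (z * w) x = σ z (σ w x))
    (hfree : ∀ z x, σ z x = x → z = 1) :
    ∃ T : Set X, IsOpen T ∧ (∀ x, ∃ z, σ z x ∈ T) ∧ ∀ x ∈ T, ∀ z, σ z x ∈ T → z = 1 := by
  -- key fact: `σ z` preserves the relation "same connected component"
  have K : ∀ z x y, connectedComponent x = connectedComponent y →
      connectedComponent (σ z x) = connectedComponent (σ z y) := by
    intro z x y hxy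
    have hy : y ∈ connectedComponent x := by rw [hxy]; exact mem_connectedComponent
    have h1 : σ z y ∈ connectedComponent (σ z x) :=
      (hσc z).image_connectedComponent_subset x ⟨y, hy, rfl⟩
    exact connectedComponent_eq h1
  have hinv : ∀ z x, σ z⁻¹ (σ z x) = x := by
    intro z x
    rw [← hσmul, inv_mul_cancel, hσ1]
  have hinv' : ∀ z x, σ z (σ z⁻¹ x) = x := by
    intro z x
    rw [← hσmul, mul_inv_cancel, hσ1]
  -- the orbit relation on components
  let r : Setoid X :=
    { r := fun x y => ∃ z, connectedComponent (σ z x) = connectedComponent y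
      iseqv :=
        { refl := fun x => ⟨1, by rw [hσ1]⟩
          symm := by
            rintro x y ⟨z, hz⟩
            refine ⟨z⁻¹, ?_⟩
            have := K z⁻¹ _ _ hz
            rw [hinv] at this
            exact this.symm
          trans := by
            rintro x y w ⟨z, hz⟩ ⟨z', hz'⟩
            refine ⟨z' * z, ?_⟩
            rw [hσmul, K z' _ _ hz, hz'] } }
  let rep : X → X := fun x => (Quotient.mk r x).out
  have hrep : ∀ x, r.r (rep x) x := fun x => Quotient.exact (Quotient.out_eq _)
  have hrep_eq : ∀ x y, r.r x y → rep x = rep y := by
    intro x y hxy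
    change (Quotient.mk r x).out = (Quotient.mk r y).out
    rw [Quotient.sound hxy]
  let T : Set X := {x | connectedComponent x = connectedComponent (rep x)}
  refine ⟨T, ?_, ?_, ?_⟩
  · rw [isOpen_iff_mem_nhds]
    intro x hx
    have hopen : IsOpen (connectedComponent x) := by
      rw [(connectedComponent_eq_irreducibleComponent hloc x).1]
      exact (connectedComponent_eq_irreducibleComponent hloc x).2
    refine Filter.mem_of_superset (hopen.mem_nhds mem_connectedComponent) ?_
    intro y hy
    have hyx : connectedComponent x = connectedComponent y := connectedComponent_eq hy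
    have hr : r.r y x := ⟨1, by rw [hσ1]; exact hyx.symm⟩
    change connectedComponent y = connectedComponent (rep y)
    rw [hrep_eq y x hr, ← hyx]
    exact hx
  · intro x
    obtain ⟨z, hz⟩ := hrep x
    refine ⟨z⁻¹, ?_⟩
    have h1 := K z⁻¹ _ _ hz
    rw [hinv] at h1
    -- `h1 : cc (rep x) = cc (σ z⁻¹ x)`
    have hr : r.r (σ z⁻¹ x) x := ⟨z, by rw [hinv']⟩
    change connectedComponent (σ z⁻¹ x) = connectedComponent (rep (σ z⁻¹ x))
    rw [hrep_eq _ _ hr]
    exact h1.symm
  · intro x hx z hz
    have hr : r.r x (σ z x) := ⟨z, rfl⟩
    have hcc : connectedComponent x = connectedComponent (σ z x) := by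
      have h1 : connectedComponent x = connectedComponent (rep x) := hx
      have h2 : connectedComponent (σ z x) = connectedComponent (rep (σ z x)) := hz
      rw [h1, h2, hrep_eq _ _ hr]
    -- the generic point of the component is fixed
    have hirr : IsIrreducible (connectedComponent x) := by
      rw [(connectedComponent_eq_irreducibleComponent hloc x).1]
      exact isIrreducible_irreducibleComponent
    obtain ⟨ξ, hξ⟩ := QuasiSober.sober hirr isClosed_connectedComponent
    have hξmem : ξ ∈ connectedComponent x := by rw [← hξ.def]; exact subset_closure rfl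
    have hξcc : connectedComponent ξ = connectedComponent x := (connectedComponent_eq hξmem).symm
    -- `σ z ξ ∈ cc x`
    have h1 : σ z ξ ∈ connectedComponent x := by
      have := K z _ _ hξcc
      rw [← hcc] at this
      rw [← this]
      exact mem_connectedComponent
    have hcc' : connectedComponent x = connectedComponent (σ z⁻¹ x) := by
      have := K z⁻¹ _ _ hcc
      rw [hinv] at this
      exact this.symm
    have h2 : σ z⁻¹ ξ ∈ connectedComponent x := by
      have := K z⁻¹ _ _ hξcc
      rw [← hcc'] at this
      rw [← this]
      exact mem_connectedComponent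
    have s1 : ξ ⤳ σ z ξ := by
      rw [specializes_iff_mem_closure, hξ.def]; exact h1
    have s2 : ξ ⤳ σ z⁻¹ ξ := by
      rw [specializes_iff_mem_closure, hξ.def]; exact h2
    have s3 : σ z ξ ⤳ ξ := by
      have := s2.map (hσc z)
      rwa [hinv'] at this
    exact hfree z ξ (s3.antisymm s1).eq

end Groth.Agent.Lib.Helper7.ConstTorsor
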