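import Groth.Agent.Lib.Helper7.TwConst.LocIrred
import Groth.Agent.Lib.Helper70.IrrCompFlat
import Groth.Agent.Lib.Helper61.GU14

/-!
# Schemes smooth over an irreducible geometrically unibranch base are locally irreducible (helper7)
-/

set_option autoImplicit false

universe u

open AlgebraicGeometry CategoryTheory TopologicalSpace

namespace Groth.Agent.Lib.Helper7.ConstTorsor

open Groth.Agent.Lib.Helper7.TwConst

/-- A scheme whose quasi-compact opens have finitely many irreducible components and whose local
rings have prime nilradical is locally irreducible. -/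
theorem exists_isOpen_isIrreducible_nhd_of_finite (X : Scheme.{u})
    (hfinX : ∀ W : X.Opens, IsCompact (W : Set X) → (irreducibleComponents (W : Type u)).Finite)
    (h : ∀ x : X, (nilradical (X.presheaf.stalk x)).IsPrime) (y : X) :
    ∃ N : Set X, IsOpen N ∧ y ∈ N ∧ IsIrreducible N := by
  obtain ⟨W, hW, hyW, -⟩ : ∃ W : X.Opens, W ∈ X.affineOpens ∧ y ∈ W ∧ W ≤ ⊤ :=
    Opens.isBasis_iff_nbhd.mp X.isBasis_affineOpens (Opens.mem_top y)
  have hfin : (irreducibleComponents (W : Scheme.{u})).Finite :=
    hfinX W (IsAffineOpen.isCompact hW)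
  have hst : ∀ x : (W : Scheme.{u}), (nilradical ((W : Scheme.{u}).presheaf.stalk x)).IsPrime := by
    intro x
    let e : (W : Scheme.{u}).presheaf.stalk x ≃+* X.presheaf.stalk x.1 :=
      (W.stalkIso x).commRingCatIsoToRingEquiv
    have h1 := h x.1
    have h2 : nilradical ((W : Scheme.{u}).presheaf.stalk x) =
        (nilradical (X.presheaf.stalk x.1)).comap e.toRingHom := by
      ext a
      simp only [Ideal.mem_comap, mem_nilradical]
      constructor
      · intro ha; exact ha.map e.toRingHom
      · intro ha
        have := ha.map e.symm.toRingHom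
        simpa using this
    rw [h2]
    exact Ideal.comap_isPrime _ _
  have hopen := isOpen_irreducibleComponent_of_finite (W : Scheme.{u}) hfin hst ⟨y, hyW⟩
  refine ⟨W.ι '' irreducibleComponent (⟨y, hyW⟩ : (W : Scheme.{u})),
    W.ι.isOpenEmbedding.isOpenMap _ hopen, ⟨⟨y, hyW⟩, mem_irreducibleComponent, rfl⟩, ?_⟩
  exact isIrreducible_irreducibleComponent.image _ W.ι.continuous.continuousOn

/-- A geometrically unibranch local ring has prime nilradical. -/
theorem nilradical_isPrime_of_isGeomUnibranch (B : Type u) [CommRing B] [IsLocalRing B]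
    (h : CAlg2.IsGeomUnibranch B) : (nilradical B).IsPrime := by
  have h1 : IsDomain (CAlg2.red B) := h.1.1
  exact (Ideal.Quotient.isDomain_iff_prime (nilradical B)).mp h1

/-- A scheme smooth over an irreducible scheme with geometrically unibranch local rings is locally
irreducible. -/
theorem exists_isOpen_isIrreducible_nhd_of_smooth {X S : Scheme.{u}} (f : X ⟶ S) [Smooth f]
    [IrreducibleSpace S] (hS : ∀ s : S, CAlg2.IsGeomUnibranch (S.presheaf.stalk s)) (y : X) :
    ∃ N : Set X, IsOpen N ∧ y ∈ N ∧ IsIrreducible N := by
  refine exists_isOpen_isIrreducible_nhd_of_finite X ?_ ?_ y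
  · intro W hW
    refine Groth.Agent.Lib.Helper70.IrrComp.finite_irreducibleComponents_of_flat_lfp f ?_ W hW
    intro U _
    refine Set.Subsingleton.finite ?_
    intro Z₁ hZ₁ Z₂ hZ₂
    have hpre : PreirreducibleSpace (U : Type u) := by
      have : IsPreirreducible (U : Set S) :=
        (IrreducibleSpace.isIrreducible_univ S).isPreirreducible.open_subset U.2 (Set.subset_univ _)
      exact Subtype.preirreducibleSpace this
    have key : ∀ Z ∈ irreducibleComponents (U : Type u), Z = Set.univ := by
      intro Z hZ
      have hne : (Set.univ : Set (U : Type u)).Nonempty := hZ.1.1.mono (Set.subset_univ _)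
      have huniv : IsIrreducible (Set.univ : Set (U : Type u)) :=
        ⟨hne, hpre.isPreirreducible_univ⟩
      exact Set.Subset.antisymm (Set.subset_univ _) (hZ.2 huniv (Set.subset_univ _))
    rw [key Z₁ hZ₁, key Z₂ hZ₂]
  · intro x
    exact nilradical_isPrime_of_isGeomUnibranch _
      (Groth.Agent.Lib.Helper61.GU.isGeomUnibranch_stalk_of_smooth f x (hS _))

end Groth.Agent.Lib.Helper7.ConstTorsor
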