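import Groth.Agent.Lib.Helper7.ConstTorsor.Free
import Groth.Agent.Lib.Helper7.ConstTorsor.FundDomain
import Groth.Agent.Lib.Helper7.ConstTorsor.LocIrredSmooth
import Groth.Agent.Lib.Helper26.TorsorLocal
import Groth.Agent.Lib.Helper51.FppfLocal

/-!
# Torsors under torsion-free constant groups over smooth schemes over a geometrically unibranch base
are trivial (helper7; SGA 7 VIII)
-/

set_option autoImplicit false
universe u
open CategoryTheory Limits AlgebraicGeometry MonoidalCategory CartesianMonoidalCategory MonObj GrpObj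

namespace Groth.Agent.Lib.Helper7.ConstTorsor

open Groth.Agent.Lib.Helper14

variable {P : Scheme.{u}} {Z : Type u} [Group Z] {G X : Over P} [GrpObj G]
  {eG : G ≅ TwC.const P Z}

/-- An open subscheme of a pseudo-torsor under a constant group which meets each of its nontrivial
translates trivially maps monomorphically to the base. -/
theorem mono_of_fundamental_domain (hG : TwC.IsConstGrp Z G eG) (a : AlgGrp.Action G X)
    (hX : NonAbH1.IsPseudoTorsorSch a) (T : X.left.Opens)
    (hT : ∀ x ∈ T, ∀ z : Z, (σ eG a z).left x ∈ T → z = 1) : Mono (T.ι ≫ X.hom) := by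
  constructor
  intro W a₁ b₁ hab
  let φ : G ⊗ X ⟶ X ⊗ X := lift a.act (snd G X)
  have hφ : IsIso φ := hX
  let W' : Over P := Over.mk (a₁ ≫ T.ι ≫ X.hom)
  let a' : W' ⟶ X := Over.homMk (a₁ ≫ T.ι) (by simp [W'])
  let b' : W' ⟶ X := Over.homMk (b₁ ≫ T.ι) (by
    change (b₁ ≫ T.ι) ≫ X.hom = a₁ ≫ T.ι ≫ X.hom
    rw [Category.assoc, hab])
  let ψ : W' ⟶ G ⊗ X := lift a' b' ≫ inv φ
  have h1 : inv φ ≫ a.act = fst X X := by
    rw [IsIso.inv_comp_eq]; exact (lift_fst _ _).symm
  have h2 : inv φ ≫ snd G X = snd X X := by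
    rw [IsIso.inv_comp_eq]; exact (lift_snd _ _).symm
  have hψact : ψ ≫ a.act = a' := by
    change (lift a' b' ≫ inv φ) ≫ a.act = a'
    rw [Category.assoc, h1, lift_fst]
  have hψsnd : ψ ≫ snd G X = b' := by
    change (lift a' b' ≫ inv φ) ≫ snd G X = b'
    rw [Category.assoc, h2, lift_snd]
  have hmem : ∀ w : W'.left, ψ.left w ∈ pieceO eG X (1 : Z) := by
    intro w
    obtain ⟨z, hz⟩ := exists_mem_pieceO (eG := eG) (ψ.left w)
    have h3 := act_apply_of_mem_pieceO a z _ hz
    have h4 : a.act.left (ψ.left w) = T.ι (a₁ w) := by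
      rw [← Scheme.Hom.comp_apply, ← Over.comp_left, hψact]; rfl
    have h5 : (snd G X).left (ψ.left w) = T.ι (b₁ w) := by
      rw [← Scheme.Hom.comp_apply, ← Over.comp_left, hψsnd]; rfl
    rw [h4, h5] at h3
    have hz1 : z = 1 := by
      refine hT (T.ι (b₁ w)) (b₁ w).2 z ?_
      rw [← h3]
      exact (a₁ w).2
    rw [← hz1]; exact hz
  have h6 := act_eq_of_forall_mem_pieceO a (1 : Z) ψ hmem
  rw [hψact, hψsnd, σ_one a hG, Category.comp_id] at h6
  have h7 : a₁ ≫ T.ι = b₁ ≫ T.ι := congrArg (fun m => m.left) h6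
  exact (cancel_mono T.ι).mp h7

/-- **Main theorem.** Let `S` be irreducible with geometrically unibranch local rings, `P` smooth
over `S`, `Z` a torsion-free group, and `X` a torsor (fppf) under the constant group `Z_P`. Then
`X ⟶ P` has a section. -/
theorem hasSection_of_constGrp_torsor (S : Scheme.{u}) [IrreducibleSpace ↥S]
    (hS : ∀ s : ↥S, CAlg2.IsGeomUnibranch ↑(S.presheaf.stalk s))
    (hZ : ∀ z : Z, IsOfFinOrder z → z = 1)
    (f : P ⟶ S) [Smooth f] (hG : TwC.IsConstGrp Z G eG) (a : AlgGrp.Action G X)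
    (hE : NonAbH1.IsTorsorFor Scheme.fppfPrecoverage a) :
    ∃ s : P ⟶ X.left, s ≫ X.hom = 𝟙 P := by
  -- `G ⟶ P` is étale and surjective
  have hGet : Etale G.hom := by
    have h1 : G.hom = eG.hom.left ≫ Sigma.desc (fun _ : Z => 𝟙 P) := (Over.w eG.hom).symm
    have h2 : Etale (Sigma.desc (fun _ : Z => 𝟙 P)) :=
      IsZariskiLocalAtSource.sigmaDesc (P := @Etale) (fun _ => inferInstance)
    rw [h1]
    infer_instance
  have hGsurj : Surjective G.hom :=
    Groth.Agent.Lib.Helper26.TorsorLocal.surjective_hom_of_grpObj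
  -- hence so is `X ⟶ P`
  have hXet : Etale X.hom :=
    Groth.Agent.Lib.Helper26.TorsorLocal.prop_of_isTorsorFor _ a hE @Etale hGet
  haveI : MorphismProperty.IsLocalAtTarget (@Surjective : MorphismProperty Scheme.{u})
      Scheme.fppfPrecoverage := Groth.Agent.Lib.Helper51.isLocalAtTarget_fppf_of_descendsAlong _
  have hXsurj : Surjective X.hom :=
    Groth.Agent.Lib.Helper26.TorsorLocal.prop_of_isTorsorFor _ a hE @Surjective hGsurj
  -- `X` is locally irreducible
  have hsm : Smooth (X.hom ≫ f) := inferInstance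
  have hloc : ∀ y : X.left, ∃ N : Set X.left, IsOpen N ∧ y ∈ N ∧ IsIrreducible N :=
    exists_isOpen_isIrreducible_nhd_of_smooth (X.hom ≫ f) hS
  -- the action on points
  have hσ1 : ∀ x : X.left, (σ eG a (1 : Z)).left x = x := by
    intro x; rw [σ_one a hG]; rfl
  have hσmul : ∀ (z w : Z) (x : X.left),
      (σ eG a (z * w)).left x = (σ eG a z).left ((σ eG a w).left x) := by
    intro z w x
    rw [σ_mul a hG, Over.comp_left, Scheme.Hom.comp_apply]
  obtain ⟨T₀, hT₀open, hT₀cov, hT₀free⟩ :=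
    exists_open_fundamental_domain hloc (fun z => ((σ eG a z).left : X.left → X.left))
      (fun z => (σ eG a z).left.continuous) hσ1 hσmul
      (fun z x hx => σ_free hG a hE.1 hZ z x hx)
  let T : X.left.Opens := ⟨T₀, hT₀open⟩
  let g : (T : Scheme.{u}) ⟶ P := T.ι ≫ X.hom
  have hmono : Mono g := mono_of_fundamental_domain hG a hE.1 T hT₀free
  have hget : Etale g := inferInstance
  have hgopen : IsOpenImmersion g := IsOpenImmersion.of_flat_of_mono g
  have hgsurj : Surjective g := by
    refine ⟨fun p => ?_⟩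
    obtain ⟨x, rfl⟩ := hXsurj.surj p
    obtain ⟨z, hz⟩ := hT₀cov x
    refine ⟨⟨(σ eG a z).left x, hz⟩, ?_⟩
    change X.hom ((σ eG a z).left x) = X.hom x
    rw [← Scheme.Hom.comp_apply, σ_left_hom]
  have hgiso : IsIso g := (isIso_iff_isOpenImmersion_and_surjective g).mpr ⟨hgopen, hgsurj⟩
  refine ⟨inv g ≫ T.ι, ?_⟩
  rw [Category.assoc]
  exact IsIso.inv_hom_id g

end Groth.Agent.Lib.Helper7.ConstTorsor
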